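import Groth.Prelude.Def_CAlgX
import Mathlib.Algebra.TrivSqZeroExt.Basic
import Mathlib.RingTheory.AdicCompletion.Basic
import Mathlib.RingTheory.Derivation.Basic
import Mathlib.Tactic.Ring

/-!
# Extending derivations along adically formally smooth maps to complete rings
-/

set_option autoImplicit false

universe u

namespace Groth.Agent.DerExtend

open TrivSqZeroExt

variable {A B : Type u} [CommRing A] [CommRing B] [Algebra A B]

/-- A derivation modulo `m ^ n` extending `D`. -/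
structure IsDerMod (m : Ideal B) (D : Derivation ℤ A A) (n : ℕ) (δ : B → B ⧸ m ^ n) : Prop where
  add : ∀ x y, δ (x + y) = δ x + δ y
  leib : ∀ x y, δ (x * y) = Ideal.Quotient.mk _ x * δ y + Ideal.Quotient.mk _ y * δ x
  base : ∀ a, δ (algebraMap A B a) = Ideal.Quotient.mk _ (algebraMap A B (D a))

theorem exists_succ (m : Ideal B) (hfs : CAlgX.IsAdicFormallySmooth A B m) (D : Derivation ℤ A A) (n : ℕ)
    (δ : B → B ⧸ m ^ n) (hδ : IsDerMod m D n δ) :
    ∃ δ' : B → B ⧸ m ^ (n + 1), IsDerMod m D (n + 1) δ' ∧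
      ∀ b, Ideal.Quotient.factor (Ideal.pow_le_pow_right (Nat.le_succ n)) (δ' b) = δ b := by
  let q := Ideal.Quotient.mk (m ^ (n + 1))
  let π := Ideal.Quotient.factor (Ideal.pow_le_pow_right (I := m) (Nat.le_succ n))
  have hπ : Function.Surjective π := Ideal.Quotient.factor_surjective _
  have hπq : ∀ b, π (q b) = Ideal.Quotient.mk (m ^ n) b := fun b => rfl
  let J : Ideal (TrivSqZeroExt (B ⧸ m ^ (n + 1)) (B ⧸ m ^ (n + 1))) :=
    { carrier := {c | c.fst = 0 ∧ π c.snd = 0}
      zero_mem' := ⟨rfl, map_zero π⟩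
      add_mem' := fun {c d} hc hd => ⟨by rw [fst_add, hc.1, hd.1, add_zero], by rw [snd_add, map_add, hc.2, hd.2, add_zero]⟩
      smul_mem' := fun c d hd => ⟨by rw [smul_eq_mul, fst_mul, hd.1, mul_zero], by
        rw [smul_eq_mul, snd_mul, hd.1]
        simp [hd.2]⟩ }
  have hJ : J ^ 2 = ⊥ := by
    rw [eq_bot_iff, pow_two, Ideal.mul_le]
    intro c hc d hd
    refine (Submodule.mem_bot _).mpr (TrivSqZeroExt.ext ?_ ?_)
    · rw [fst_mul, hc.1, zero_mul, fst_zero]
    · rw [snd_mul, hc.1, hd.1]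
      simp
  let h : A →+* (TrivSqZeroExt (B ⧸ m ^ (n + 1)) (B ⧸ m ^ (n + 1))) :=
    { toFun := fun a => inl (q (algebraMap A B a)) + inr (q (algebraMap A B (D a)))
      map_one' := by ext <;> simp
      map_zero' := by ext <;> simp
      map_add' := fun a b => by ext <;> simp
      map_mul' := fun a b => by
        ext
        · simp
        · simp [mul_comm] }
  letI := h.toAlgebra
  choose l hl using fun b => hπ (δ b)
  let ψ₀ : B → (TrivSqZeroExt (B ⧸ m ^ (n + 1)) (B ⧸ m ^ (n + 1))) ⧸ J := fun b => Ideal.Quotient.mk J (inl (q b) + inr (l b))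
  have heq : ∀ c d : (TrivSqZeroExt (B ⧸ m ^ (n + 1)) (B ⧸ m ^ (n + 1))), c.fst = d.fst → π c.snd = π d.snd → Ideal.Quotient.mk J c = Ideal.Quotient.mk J d :=
    fun c d h1 h2 => Ideal.Quotient.eq.mpr ⟨by rw [fst_sub, h1, sub_self], by rw [snd_sub, map_sub, h2, sub_self]⟩
  have hone : δ 1 = 0 := by
    have := hδ.base 1
    simpa using this
  let ψ : B →ₐ[A] (TrivSqZeroExt (B ⧸ m ^ (n + 1)) (B ⧸ m ^ (n + 1))) ⧸ J :=
    { toFun := ψ₀
      map_one' := heq _ 1 (by simp) (by simp [hl, hone])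
      map_zero' := heq _ 0 (by simp) (by
        have : δ 0 = 0 := by simpa using hδ.base 0
        simp [hl, this])
      map_add' := fun x y => (heq _ ((inl (q x) + inr (l x)) + (inl (q y) + inr (l y))) (by simp) (by simp [hl, hδ.add])).trans (map_add _ _ _)
      map_mul' := fun x y => (heq _ ((inl (q x) + inr (l x)) * (inl (q y) + inr (l y))) (by simp) (by
        simp [hl, hδ.leib, hπq, mul_comm])).trans (map_mul _ _ _)
      commutes' := fun a => heq _ (inl (q (algebraMap A B a)) + inr (q (algebraMap A B (D a)))) (by simp) (by simp [hl, hδ.base, hπq]) }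
  obtain ⟨χ, hχ⟩ := hfs (TrivSqZeroExt (B ⧸ m ^ (n + 1)) (B ⧸ m ^ (n + 1))) J hJ ψ ⟨(n + 1) * 2, fun x hx => by
    have h1 : ∀ x ∈ m ^ (n + 1), (ψ₀ x) ∈ ({c : (TrivSqZeroExt (B ⧸ m ^ (n + 1)) (B ⧸ m ^ (n + 1))) | c.fst = 0} : Set (TrivSqZeroExt (B ⧸ m ^ (n + 1)) (B ⧸ m ^ (n + 1)))).image (Ideal.Quotient.mk J) := fun x hx =>
      ⟨_, by simp [q, Ideal.Quotient.eq_zero_iff_mem.mpr hx], rfl⟩
    rw [pow_mul, pow_two] at hx
    refine Submodule.mul_induction_on hx (fun a ha b hb => ?_) (fun a b ha hb => by rw [map_add, ha, hb, add_zero])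
    rw [map_mul]
    obtain ⟨c, hc, e1⟩ := h1 a ha
    obtain ⟨d, hd, e2⟩ := h1 b hb
    show ψ₀ a * ψ₀ b = 0
    rw [← e1, ← e2, ← map_mul]
    refine (congrArg _ (TrivSqZeroExt.ext ?_ ?_)).trans (map_zero _)
    · rw [fst_mul, show c.fst = 0 from hc, zero_mul, fst_zero]
    · rw [snd_mul, show c.fst = 0 from hc, show d.fst = 0 from hd]
      simp⟩
  have hlift : ∀ b, (χ b).fst = q b ∧ π (χ b).snd = δ b := fun b => by
    have h1 : χ b - (inl (q b) + inr (l b)) ∈ J := Ideal.Quotient.eq.mp (DFunLike.congr_fun hχ b)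
    refine ⟨sub_eq_zero.mp (by simpa using h1.1), ?_⟩
    have := h1.2
    rw [snd_sub, map_sub, sub_eq_zero] at this
    simpa [hl] using this
  refine ⟨fun b => (χ b).snd, ⟨fun x y => by simp, fun x y => ?_, fun a => ?_⟩, fun b => (hlift b).2⟩
  · rw [map_mul, snd_mul, (hlift x).1, (hlift y).1]
    simp [q, mul_comm]
  · rw [χ.commutes]
    show (inl (q (algebraMap A B a)) + inr (q (algebraMap A B (D a))) : (TrivSqZeroExt (B ⧸ m ^ (n + 1)) (B ⧸ m ^ (n + 1)))).snd = _
    simp [q]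

theorem exists_extension (m : Ideal B) [IsAdicComplete m B] (hfs : CAlgX.IsAdicFormallySmooth A B m)
    (D : Derivation ℤ A A) : ∃ D' : Derivation ℤ B B, ∀ a : A, D' (algebraMap A B a) = algebraMap A B (D a) := by
  have hsub : Subsingleton (B ⧸ m ^ 0) := Ideal.Quotient.subsingleton_iff.mpr (by simp)
  let step : ∀ n, {δ : B → B ⧸ m ^ n // IsDerMod m D n δ} := fun n => Nat.rec
    ⟨fun _ => 0, ⟨fun _ _ => hsub.elim _ _, fun _ _ => hsub.elim _ _, fun _ => hsub.elim _ _⟩⟩
    (fun n d => ⟨(exists_succ m hfs D n d.1 d.2).choose, (exists_succ m hfs D n d.1 d.2).choose_spec.1⟩) n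
  have hstep : ∀ n b, Ideal.Quotient.factor (Ideal.pow_le_pow_right (Nat.le_succ n)) ((step (n + 1)).1 b) = (step n).1 b :=
    fun n b => (exists_succ m hfs D n (step n).1 (step n).2).choose_spec.2 b
  choose l hl using fun n b => Ideal.Quotient.mk_surjective ((step n).1 b)
  have hcau : ∀ b {i j : ℕ}, i ≤ j → l i b ≡ l j b [SMOD (m ^ i • ⊤ : Ideal B)] := fun b i j hij => by
    rw [SModEq.sub_mem, smul_eq_mul, Ideal.mul_top, ← Ideal.Quotient.eq]
    induction hij with
    | refl => rfl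
    | step hk ih =>
      rw [ih]
      rename_i k
      have := hstep k b
      rw [← hl, ← hl, Ideal.Quotient.factor_mk, Ideal.Quotient.eq] at this
      rw [Ideal.Quotient.eq]
      have h2 := Ideal.pow_le_pow_right hk this
      simpa [Nat.succ_eq_add_one] using (m ^ i).neg_mem h2
  choose L hL using fun b => IsPrecomplete.prec' (I := m) (fun n => l n b) (fun {i j} h => hcau b h)
  have hmk : ∀ n b, Ideal.Quotient.mk (m ^ n) (L b) = (step n).1 b := fun n b => by
    have := hL b n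
    rw [SModEq.sub_mem, smul_eq_mul, Ideal.mul_top, ← Ideal.Quotient.eq] at this
    rw [← this, hl]
  have hext : ∀ x y : B, (∀ n, Ideal.Quotient.mk (m ^ n) x = Ideal.Quotient.mk (m ^ n) y) → x = y := fun x y h => by
    refine sub_eq_zero.mp (IsHausdorff.haus' (I := m) _ fun n => ?_)
    rw [SModEq.sub_mem, sub_zero, smul_eq_mul, Ideal.mul_top]
    exact Ideal.Quotient.eq.mp (h n)
  let f : B →+ B := AddMonoidHom.mk' L fun x y => hext _ _ fun n => by
    rw [map_add, hmk, hmk, hmk, (step n).2.add]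
  refine ⟨Derivation.mk' f.toIntLinearMap fun x y => hext _ _ fun n => ?_, fun a => hext _ _ fun n => ?_⟩
  · show Ideal.Quotient.mk (m ^ n) (L (x * y)) = Ideal.Quotient.mk (m ^ n) (x * L y + y * L x)
    rw [map_add, map_mul, map_mul, hmk, hmk, hmk, (step n).2.leib]
  · show Ideal.Quotient.mk (m ^ n) (L (algebraMap A B a)) = _
    rw [hmk, (step n).2.base]

end Groth.Agent.DerExtend
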